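import Groth.Agent.DualCore.AtPrime
import Groth.Agent.Calg3.DualTF
import Mathlib.RingTheory.DiscreteValuationRing.TFAE
import Mathlib.RingTheory.Ideal.Height
import Mathlib.LinearAlgebra.FreeModule.PID
import Mathlib.Algebra.Module.FinitePresentation
import Mathlib.RingTheory.Localization.Module
import Mathlib.CategoryTheory.Triangulated.TStructure.TruncLEGT

/-!
The bottom cohomology of a dualizing complex of a normal local domain is reflexive.
-/

set_option autoImplicit false

universe u

open CategoryTheory CategoryTheory.Limits DerivedCategory TensorProduct IsLocalRing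

attribute [local instance] HasDerivedCategory.standard

namespace Groth.Dual3Dualizing

open Groth.DualCore

/-- For a Noetherian normal domain, a finite torsion-free module agrees with its double dual at primes of
height at most one. -/
theorem exists_smul_mem_range_eval_of_height_le_one {A : Type u} [CommRing A] [IsDomain A]
    [IsNoetherianRing A] [IsIntegrallyClosed A] {W : Type u} [AddCommGroup W] [Module A W]
    [Module.Finite A W] [Module.IsTorsionFree A W] (p : Ideal A) [p.IsPrime] (hp : p.height ≤ 1)
    (y : Module.Dual A (Module.Dual A W)) : ∃ s ∉ p, s • y ∈ LinearMap.range (Module.Dual.eval A W) := by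
  classical
  let Q := Localization.AtPrime p
  haveI : IsNoetherianRing Q := IsLocalization.isNoetherianRing p.primeCompl Q inferInstance
  haveI : IsDomain Q := IsLocalization.isDomain_localization p.primeCompl_le_nonZeroDivisors
  haveI : IsIntegrallyClosed Q :=
    isIntegrallyClosed_of_isLocalization Q p.primeCompl p.primeCompl_le_nonZeroDivisors
  haveI : IsPrincipalIdealRing Q := by
    refine ((tfae_of_isNoetherianRing_of_isLocalRing_of_isDomain Q).out 0 3 rfl rfl).2
      ⟨inferInstance, fun P hP hP' => ?_⟩
    by_contra hne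
    have hlt : P < maximalIdeal Q := lt_of_le_of_ne (le_maximalIdeal hP'.ne_top) hne
    have h1 : P.height + 1 ≤ (maximalIdeal Q).height :=
      Ideal.height_add_one_le_of_lt_of_isPrime hlt
    have h2 : (⊥ : Ideal Q).height + 1 ≤ P.height :=
      Ideal.height_add_one_le_of_lt_of_isPrime (bot_lt_iff_ne_bot.2 hP)
    have h3 : (maximalIdeal Q).height = p.height :=
      WithBot.coe_injective (IsLocalRing.maximalIdeal_height_eq_ringKrullDim.trans
        (IsLocalization.AtPrime.ringKrullDim_eq_height p Q))
    have h4 : (2 : ℕ∞) ≤ p.height := by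
      rw [← h3]
      refine le_trans ?_ h1
      calc (2 : ℕ∞) = 0 + 1 + 1 := by norm_num
        _ ≤ (⊥ : Ideal Q).height + 1 + 1 := by gcongr; exact bot_le
        _ ≤ P.height + 1 := by gcongr
    exact absurd (h4.trans hp) (by norm_num)
  let mk := LocalizedModule.mkLinearMap p.primeCompl W
  haveI : Module.Finite Q (LocalizedModule p.primeCompl W) :=
    Module.Finite.of_isLocalizedModule p.primeCompl (Rₚ := Q) mk
  have hinj : Function.Injective mk := fun a b h => by
    obtain ⟨c, hc⟩ := IsLocalizedModule.exists_of_eq (S := p.primeCompl) (f := mk) h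
    exact smul_right_injective W (show (c : A) ≠ 0 from fun h0 => c.2 (h0 ▸ p.zero_mem)) hc
  haveI : Module.IsTorsionFree Q (LocalizedModule p.primeCompl W) := by
    refine Groth.Calg3.isTorsionFree_of_smul_eq_zero fun c x hc h => ?_
    obtain ⟨⟨m, s⟩, hms⟩ := IsLocalizedModule.surj p.primeCompl mk x
    obtain ⟨a, t, rfl⟩ := IsLocalization.exists_mk'_eq p.primeCompl c
    have ha : a ≠ 0 := fun h0 => hc (by rw [h0, IsLocalization.mk'_zero])
    have h1 : mk (a • m) = 0 := by
      rw [map_smul, ← hms, ← algebraMap_smul Q a, ← IsLocalization.mk'_spec' Q a t, mul_smul,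
        Submonoid.smul_def, smul_comm (IsLocalization.mk' Q a t) (s : A), h, smul_zero, smul_zero]
    have h2 : m = 0 := (smul_eq_zero.1 (hinj (h1.trans (map_zero mk).symm))).resolve_left ha
    rw [h2, map_zero, Submonoid.smul_def, ← algebraMap_smul Q (s : A)] at hms
    exact (IsLocalization.map_units Q s).smul_eq_zero.1 hms
  haveI : Module.Free Q (LocalizedModule p.primeCompl W) := Module.free_of_finite_type_torsion_free'
  let b := Module.Free.chooseBasis Q (LocalizedModule p.primeCompl W)
  haveI := Module.finitePresentation_of_finite A W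
  -- numerators of the basis and of the coordinates
  choose g hg using fun i => IsLocalizedModule.surj p.primeCompl mk (b i)
  choose φ u hu using fun i => Module.FinitePresentation.exists_lift_of_isLocalizedModule
    p.primeCompl (Algebra.linearMap A Q) (((b.coord i).restrictScalars A) ∘ₗ mk)
  let s : p.primeCompl := ∏ i, (g i).2 * u i
  have hs : ∀ i, ∃ c : A, (s : A) = c * ((g i).2 * u i) := fun i => by
    refine ⟨((∏ j ∈ Finset.univ.erase i, (g j).2 * u j : p.primeCompl) : A), ?_⟩
    rw [← Submonoid.coe_mul, ← Submonoid.coe_mul, Finset.prod_erase_mul _ _ (Finset.mem_univ i)]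
  choose c hc using hs
  have key : ∀ x : W, (s : A) • x = ∑ i, φ i x • c i • (g i).1 := fun x => by
    apply hinj
    rw [map_sum, map_smul]
    calc (s : A) • mk x = (s : A) • ∑ i, b.coord i (mk x) • b i := by
          simp only [Module.Basis.coord_apply, b.sum_repr]
      _ = _ := by
        rw [Finset.smul_sum]
        refine Finset.sum_congr rfl fun i _ => ?_
        have h1 : algebraMap A Q (φ i x) = algebraMap A Q (u i : A) * b.coord i (mk x) := by
          have h1' := LinearMap.congr_fun (hu i) x
          simp only [LinearMap.coe_comp, Function.comp_apply, Algebra.linearMap_apply,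
            LinearMap.smul_apply, LinearMap.coe_restrictScalars, Submonoid.smul_def] at h1'
          rw [h1', Algebra.smul_def]
        rw [map_smul, map_smul, ← hg i, Submonoid.smul_def, hc i, ← algebraMap_smul Q (φ i x),
          ← algebraMap_smul Q (c i), ← algebraMap_smul Q ((g i).2 : A),
          ← algebraMap_smul Q (c i * ((g i).2 * u i) : A), smul_smul, smul_smul, smul_smul, h1,
          map_mul, map_mul]
        congr 1
        ring
  refine ⟨(s : A), s.2, ∑ i, y (φ i) • c i • (g i).1, LinearMap.ext fun f => ?_⟩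
  have hf : (s : A) • f = ∑ i, f (c i • (g i).1) • φ i := LinearMap.ext fun x => by
    rw [LinearMap.smul_apply, ← map_smul, key, map_sum, LinearMap.sum_apply]
    exact Finset.sum_congr rfl fun i _ => by
      rw [map_smul, LinearMap.smul_apply, smul_eq_mul, smul_eq_mul, mul_comm]
  rw [map_sum, LinearMap.sum_apply, LinearMap.smul_apply, ← map_smul y, hf, map_sum]
  exact Finset.sum_congr rfl fun i _ => by
    simp only [map_smul, LinearMap.smul_apply, Module.Dual.eval_apply, smul_eq_mul]
    ring

variable {A : Type u} [CommRing A]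

/-- Support dimension plus a lower height bound on the support is at most the dimension. -/
theorem supportDim_add_le {M : Type u} [AddCommGroup M] [Module A M] [Nontrivial M] {d h e : ℕ}
    (hd : ringKrullDim A = (d : ℕ)) (he : Module.supportDim A M = (e : ℕ))
    (hh : ∀ p ∈ Module.support A M, (h : ℕ∞) ≤ p.asIdeal.height) : h + e ≤ d := by
  haveI : Nonempty (Module.support A M) := by
    obtain ⟨q, hq⟩ := Module.nonempty_support_of_nontrivial (R := A) (M := M)
    exact ⟨⟨q, hq⟩⟩
  obtain ⟨l, hl⟩ : ∃ l : LTSeries (Module.support A M), l.length = e :=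
    Order.le_krullDim_iff.1 (by
      change (e : WithBot ℕ∞) ≤ Module.supportDim A M
      rw [he])
  let l' : LTSeries (PrimeSpectrum A) := l.map Subtype.val (fun _ _ hab => hab)
  have h1 : (h : ℕ∞) ≤ Order.height l'.head := by
    rw [← PrimeSpectrum.height_eq_orderHeight]
    exact hh _ l.head.2
  have key : ∀ k : Fin (l'.length + 1), Order.height l'.head + (k : ℕ) ≤ Order.height (l' k) := by
    intro k
    induction k using Fin.induction with
    | zero => simp [RelSeries.head]
    | succ k ih =>
      refine le_trans ?_ (Order.height_add_one_le (l'.step k))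
      rw [Fin.val_succ, Nat.cast_add, ← add_assoc]
      simp only [Nat.cast_one]
      gcongr
      simpa using ih
  have h2 := key (Fin.last l'.length)
  have h3 : ((h + e : ℕ) : WithBot ℕ∞) ≤ ((d : ℕ) : WithBot ℕ∞) := by
    rw [← hd]
    refine le_trans ?_ (Order.height_le_krullDim (l' (Fin.last _)))
    have : ((h + e : ℕ) : ℕ∞) ≤ Order.height (l' (Fin.last l'.length)) := by
      refine le_trans ?_ h2
      rw [Nat.cast_add]
      gcongr
      exact hl.symm.le
    exact WithBot.coe_le_coe.2 this
  exact_mod_cast h3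

/-- A finite torsion-free module over a Noetherian normal domain which is a retract of every finite
module agreeing with it in codimension one is reflexive. -/
theorem isReflexive_of_split [IsNoetherianRing A] [IsDomain A] [IsIntegrallyClosed A]
    {W : Type u} [AddCommGroup W] [Module A W] [Module.Finite A W] [Module.IsTorsionFree A W]
    (hsplit : ∀ (N : Type u) [AddCommGroup N] [Module A N] [Module.Finite A N] (e : W →ₗ[A] N),
      Function.Injective e →
      (∀ p ∈ Module.support A (N ⧸ LinearMap.range e), ((2 : ℕ) : ℕ∞) ≤ p.asIdeal.height) →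
      ∃ r : N →ₗ[A] W, r ∘ₗ e = LinearMap.id) : Module.IsReflexive A W := by
  let ev := Module.Dual.eval A W
  have hev : Function.Injective ev := Groth.Calg3.eval_injective_of_torsionFree A W
  obtain ⟨r, hr⟩ := hsplit _ ev hev fun p hp => by
    by_contra hlt
    obtain ⟨x, hx⟩ := Module.mem_support_iff'.1 hp
    obtain ⟨y, rfl⟩ := Submodule.Quotient.mk_surjective _ x
    obtain ⟨c, hc, hcy⟩ := exists_smul_mem_range_eval_of_height_le_one (W := W) p.asIdeal
      (Order.le_of_lt_succ (by
        rw [Order.succ_eq_add_one, one_add_one_eq_two]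
        simpa using hlt)) y
    refine hx c hc ?_
    rw [← Submodule.Quotient.mk_smul, Submodule.Quotient.mk_eq_zero]
    exact hcy
  refine ⟨⟨hev, fun y => ⟨r y, ?_⟩⟩⟩
  obtain ⟨c, hc, -, hcy⟩ := Groth.Calg3.exists_smul_mem_range_eval A W
  obtain ⟨w, hw⟩ := hcy y
  haveI : Module.IsTorsionFree A (Module.Dual A (Module.Dual A W)) :=
    Groth.Calg3.linearMap_torsionFree
  apply smul_right_injective (Module.Dual A (Module.Dual A W)) hc
  show c • ev (r y) = c • y
  rw [← map_smul, ← map_smul r, ← hw, show r (ev w) = w from LinearMap.congr_fun hr w]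

/-- The bottom cohomology represents maps from modules. -/
theorem exists_bottom (Y : Dual.D A) [DerivedCategory.IsGE Y 0] :
    ∃ (W : ModuleCat.{u} A) (ι : Dual.inD A W ⟶ Y),
      ∀ (M : Type u) [AddCommGroup M] [Module A M],
        Function.Bijective (fun f : M →ₗ[A] W => inDmap f ≫ ι) := by
  let t : Triangulated.TStructure (Dual.D A) := TStructure.t
  haveI : t.IsGE Y 0 := ‹Y.IsGE 0›
  haveI : ((t.truncLE 0).obj Y).IsLE 0 := inferInstanceAs (t.IsLE ((t.truncLE 0).obj Y) 0)
  haveI : ((t.truncLE 0).obj Y).IsGE 0 := by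
    show t.IsGE ((t.truncLE 0).obj Y) 0
    haveI h3 : t.IsGE (((t.truncGT 0).obj Y)⟦(-1 : ℤ)⟧) 0 := by
      haveI : t.IsGE ((t.truncGT 0).obj Y) 1 := (inferInstance : t.IsGE _ (0 + 1))
      haveI := t.isGE_shift ((t.truncGT 0).obj Y) 1 (-1) 2
      exact t.isGE_of_ge _ 0 2 (by lia)
    exact t.isGE₂ _ (Pretriangulated.inv_rot_of_distTriang _ (t.triangleLEGT_distinguished 0 Y)) 0 h3 ‹_›
  obtain ⟨W, ⟨e⟩⟩ := DerivedCategory.exists_iso_singleFunctor_obj_of_isGE_of_isLE
    ((t.truncLE 0).obj Y) 0
  let ι : Dual.inD A W ⟶ Y := e.inv ≫ (t.truncLEι 0).app Y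
  refine ⟨W, ι, fun M _ _ => ?_⟩
  haveI : t.IsLE (Dual.inD A M) 0 :=
    (inferInstance : ((singleFunctor (ModuleCat.{u} A) 0).obj (ModuleCat.of A M)).IsLE 0)
  refine ⟨fun f g h => ?_, fun v => ?_⟩
  · have h' : inDmap f ≫ e.inv = inDmap g ≫ e.inv := t.to_truncLE_obj_ext (by
      simpa [ι, Category.assoc] using h)
    rw [cancel_mono] at h'
    exact congrArg ModuleCat.Hom.hom
      ((DerivedCategory.singleFunctor (ModuleCat.{u} A) 0).map_injective h')
  · obtain ⟨f, hf⟩ := (DerivedCategory.singleFunctor (ModuleCat.{u} A) 0).map_surjective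
      (t.liftTruncLE v 0 ≫ e.hom)
    refine ⟨f.hom, ?_⟩
    change (singleFunctor (ModuleCat.{u} A) 0).map f ≫ e.inv ≫ (t.truncLEι 0).app Y = v
    rw [hf, Category.assoc, e.hom_inv_id_assoc, t.liftTruncLE_ι]

set_option maxHeartbeats 800000 in
/-- **The dualizing module of a normal local domain is reflexive.** -/
theorem isReflexive_bottom [IsLocalRing A] [IsNoetherianRing A] [IsDomain A] [IsIntegrallyClosed A]
    {ω : Dual.D A} (hω : Dual.IsDualizing A ω) (n : ℤ)
    (hlow : ∀ i, i < n → Subsingleton (Dual.HD A ω i)) : Module.IsReflexive A (Dual.HD A ω n) := by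
  rcases subsingleton_or_nontrivial (Dual.HD A ω n) with h0 | h0
  · exact ⟨⟨fun _ _ _ => Subsingleton.elim _ _, fun y => ⟨0, LinearMap.ext fun f => by
      rw [Subsingleton.elim f 0, map_zero, map_zero]⟩⟩⟩
  obtain ⟨s, hn, -, -⟩ := exists_normalized hω
  let ω' := ω⟦s⟧
  have hω' : Dual.IsDualizing A ω' := isDualizing_shift hω s
  let eH : ∀ j, Dual.HD A ω' j ≃ₗ[A] Dual.HD A ω (s + j) := fun j =>
    ((homAEquiv ω' j).symm.trans (homShiftEquiv _ ω s (s + j) j rfl)).trans (homAEquiv ω (s + j))
  let k : ℤ := n - s
  have hk : s + k = n := by lia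
  haveI : Nontrivial (Dual.HD A ω' k) := by
    have e := eH k
    rw [hk] at e
    exact e.toEquiv.nontrivial
  have hlow' : ∀ j, j < k → Subsingleton (Dual.HD A ω' j) := fun j hj =>
    haveI := hlow (s + j) (by lia)
    (eH j).toEquiv.subsingleton
  haveI hge : DerivedCategory.IsGE ω' k := isGE_of_HD ω' k hlow'
  obtain ⟨d, hd⟩ := exists_supportDim_eq A A
  have hdA : ringKrullDim A = (d : ℕ) := (Module.supportDim_self_eq_ringKrullDim A).symm.trans hd
  have hkd : k = -(d : ℤ) := by
    let p : PrimeSpectrum A := ⟨⊥, Ideal.bot_prime⟩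
    have hp : degree hω' p = -(d : ℤ) := degree_normalized hω' hn p d (by
      rw [← hdA]
      exact ringKrullDim_eq_of_ringEquiv (RingEquiv.quotientBot A))
    have h1 := (localized_HD_minimal hω' p
      (by rw [IsDomain.minimalPrimes_eq_singleton_bot]; rfl) (-(d : ℤ))).2 hp.symm
    have h2 : k ≤ -(d : ℤ) := by
      by_contra hc
      haveI := hlow' _ (not_le.1 hc)
      exact not_subsingleton (LocalizedModule p.asIdeal.primeCompl (Dual.HD A ω' (-(d : ℤ))))
        inferInstance
    have h3 : -(d : ℤ) ≤ k := by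
      by_contra hc
      haveI := subsingleton_hom_of_supportDim ω' k hω'.finite_cohomology hn (M := A) hd.le k
        (Or.inl (not_le.1 hc))
      exact not_subsingleton _ (homAEquiv ω' k).symm.toEquiv.subsingleton
    lia
  let Y := ω'⟦k⟧
  haveI : DerivedCategory.IsGE Y 0 := TStructure.t.isGE_shift ω' k k 0
  obtain ⟨W, ι, hι⟩ := exists_bottom Y
  let Φ : ∀ (M : Type u) [AddCommGroup M] [Module A M], (M →ₗ[A] W) ≃ₗ[A] (Dual.inD A M ⟶ Y) :=
    fun M _ _ => LinearEquiv.ofBijective
      { toFun := fun f => inDmap f ≫ ι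
        map_add' := fun f g => by rw [inDmap_add, Preadditive.add_comp]
        map_smul' := fun r f => by rw [inDmap_smul, Linear.smul_comp, RingHom.id_apply] } (hι M)
  let eW : (W : Type u) ≃ₗ[A] Dual.HD A ω n :=
    ((LinearMap.ringLmapEquivSelf A A W).symm.trans (Φ A)).trans ((homAEquiv ω' k).trans (by
      have e := eH k
      rw [hk] at e
      exact e))
  haveI := hω.finite_cohomology n
  haveI : Module.Finite A W := Module.Finite.equiv eW.symm
  -- maps from small modules vanish
  have hvan : ∀ (M : Type u) [AddCommGroup M] [Module A M] [Module.Finite A M] (h : ℕ),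
      (∀ p ∈ Module.support A M, (h : ℕ∞) ≤ p.asIdeal.height) → ∀ j : ℤ, j < k + h →
        Subsingleton (Dual.inD A M ⟶ ω'⟦j⟧) := by
    intro M _ _ _ h hh j hj
    rcases subsingleton_or_nontrivial M with hM | hM
    · exact subsingleton_hom_of_subsingleton ω' M j
    · obtain ⟨e, he⟩ := exists_supportDim_eq A M
      have := supportDim_add_le hdA he hh
      exact subsingleton_hom_of_supportDim ω' k hω'.finite_cohomology hn he.le j (Or.inl (by lia))
  -- torsion-free
  haveI htf : Module.IsTorsionFree A W := by
    let T := Submodule.torsion A W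
    haveI : Module.Finite A T := Module.Finite.iff_fg.2 (IsNoetherian.noetherian _)
    have hT : ∀ p ∈ Module.support A T, ((1 : ℕ) : ℕ∞) ≤ p.asIdeal.height := by
      intro p hp
      rw [Nat.cast_one, Order.one_le_iff_pos, pos_iff_ne_zero, Ne, Ideal.height_eq_zero_iff,
        IsDomain.minimalPrimes_eq_singleton_bot, Set.mem_singleton_iff]
      intro hbot
      obtain ⟨⟨x, a, ha⟩, hx⟩ := Module.mem_support_iff'.1 hp
      refine hx a ?_ (Subtype.ext ha)
      rw [hbot, Submodule.mem_bot]
      exact nonZeroDivisors.coe_ne_zero a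
    haveI := hvan T 1 hT k (by lia)
    haveI : Subsingleton (T →ₗ[A] W) := (Φ T).toEquiv.subsingleton
    refine Groth.Calg3.isTorsionFree_of_smul_eq_zero fun c x hc hcx => ?_
    exact LinearMap.congr_fun (Subsingleton.elim T.subtype 0)
      ⟨x, ⟨⟨c, mem_nonZeroDivisors_of_ne_zero hc⟩, hcx⟩⟩
  haveI : Module.IsReflexive A W := by
    refine isReflexive_of_split fun N _ _ _ e he hC => ?_
    haveI := hvan (N ⧸ LinearMap.range e) 2 hC (k + 1) (by lia)
    obtain ⟨v, hv⟩ := (map1_exact_left e (Submodule.mkQ (LinearMap.range e)) he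
      (Submodule.mkQ_surjective _) (LinearMap.exact_map_mkQ_range e) ω' k (k + 1) rfl
      (Φ W LinearMap.id)).1 (Subsingleton.elim _ _)
    obtain ⟨r, hr⟩ := (Φ _).surjective v
    refine ⟨r, (Φ W).injective (Eq.trans ?_ hv)⟩
    rw [map1_apply, ← hr]
    show inDmap (r ∘ₗ e) ≫ ι = inDmap e ≫ inDmap r ≫ ι
    rw [inDmap_comp, Category.assoc]
  exact Module.equiv eW

end Groth.Dual3Dualizing
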