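import Groth.Agent.Misc4.QCohTildeD
import Groth.Agent.S1121
import Groth.Agent.DualCore.LocalFamilies
import Groth.Agent.DerivedCoh.StalkAmp.Basic
import Groth.Agent.PropsBasic.FPSections
import Groth.Agent.CohTwo.InjectiveSections
import Groth.Agent.Calg1.DualSchLocal
import Groth.Agent.DerivedCoh.RelAmpTilde
import Groth.Agent.QCohMod.PullbackQCoh
import Groth.Prelude.Def_DerSch
import Groth.Prelude.Def_DualSch

/-!
A bounded complex of injective modules with coherent cohomology whose stalks are dualizing is dualizing.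
-/

set_option autoImplicit false

universe u

open CategoryTheory CategoryTheory.Limits AlgebraicGeometry HomologicalComplex

attribute [local instance] HasDerivedCategory.standard

namespace Groth.Dual3Dualizing

local notation "up" => ComplexShape.up ℤ

/-- Maps from an object in degree zero into a K-injective complex vanish when its term in degree zero
is zero. -/
theorem subsingleton_hom_single {C : Type*} [Category C] [Abelian C] [HasDerivedCategory C] (M : C)
    (L : CochainComplex C ℤ) [L.IsKInjective] (h : IsZero (L.X 0)) :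
    Subsingleton ((DerivedCategory.singleFunctor C 0).obj M ⟶ DerivedCategory.Q.obj L) := by
  let e := (DerivedCategory.singleFunctorIsoCompQ C 0).app M
  refine ⟨fun f g => ?_⟩
  rw [← cancel_epi e.inv]
  obtain ⟨a, ha⟩ := Groth.Misc4.DerivedAdj.exists_lift (e.inv ≫ f)
  obtain ⟨b, hb⟩ := Groth.Misc4.DerivedAdj.exists_lift (e.inv ≫ g)
  rw [← ha, ← hb]
  congr 1
  exact HomologicalComplex.from_single_hom_ext (h.eq_of_tgt _ _)

/-- Restriction along open immersions preserves coherence. -/
theorem isCoh_restrict_openImm {Y Z : Scheme.{u}} (k : Y ⟶ Z) [IsOpenImmersion k] {F : Z.Modules}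
    (hF : Coh.IsCoh F) : Coh.IsCoh (F.restrict k) :=
  haveI := hF.1
  Groth.QCohMod.isCoh_of_iso ((Scheme.Modules.restrictFunctorIsoPullback k).app F).symm
    ⟨inferInstance, Groth.QCohMod.isFT_pullback k F hF.2⟩

variable {X : Scheme.{u}} [AlgebraicGeometry.IsNoetherian X]
  [∀ (U : Scheme.{u}) (j : U ⟶ X) [IsOpenImmersion j],
    PreservesFiniteLimits (Scheme.Modules.restrictFunctor j)]
  [∀ (R : CommRingCat.{u}), PreservesFiniteLimits (tilde.functor R)]

set_option backward.isDefEq.respectTransparency.types false in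
theorem exists_dualizing_chart {R : CommRingCat.{u}} (j : Spec R ⟶ X) [IsOpenImmersion j]
    (I : CochainComplex X.Modules ℤ) (hIinj : ∀ i : ℤ, Injective (I.X i))
    (hIbdd : ∃ a b : ℤ, ∀ i : ℤ, (i < a ∨ b < i) → IsZero (I.X i))
    (hcoh : ∀ i : ℤ, Coh.IsCoh (DCoh.HD (DCoh.toD X I) i))
    (hst : ∀ x : X, Dual.IsDualizing (X.presheaf.stalk ((𝟙 X : X ⟶ X).base x))
      (DRing.toD ((DerSch.stalkCxOver (𝟙 X) x).obj I))) :
    ∃ ω : Dual.D R, Dual.IsDualizing R ω ∧
      Nonempty ((DCoh.restrictD j).obj (DCoh.toD X I) ≅ (DCoh.tildeD R).obj ω) := by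
  obtain ⟨a, b, hab⟩ := hIbdd
  haveI : IsLocallyNoetherian (Spec R) := isLocallyNoetherian_of_isOpenImmersion j
  haveI : IsNoetherianRing R := isLocallyNoetherian_Spec.1 inferInstance
  haveI : (tilde.functor R).Additive := inferInstance
  haveI : (moduleSpecΓFunctor (R := R)).Additive := Groth.Misc4.QCohTildeD.additive_Γ₀
  let J : CochainComplex (Spec R).Modules ℤ :=
    ((Scheme.Modules.restrictFunctor j).mapHomologicalComplex up).obj I
  haveI hJge : J.IsStrictlyGE a := (CochainComplex.isStrictlyGE_iff J a).2 fun i hi =>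
    (Scheme.Modules.restrictFunctor j).map_isZero (hab i (Or.inl hi))
  haveI hJinj : ∀ i, Injective (J.X i) := fun i =>
    haveI := hIinj i
    Groth.CohTwo.injective_restrict j (I.X i)
  haveI : J.IsKInjective := CochainComplex.isKInjective_of_injective J a
  have hJle : ∀ i, b < i → IsZero (J.X i) := fun i hi =>
    (Scheme.Modules.restrictFunctor j).map_isZero (hab i (Or.inr hi))
  let eJ : (DCoh.restrictD j).obj (DCoh.toD X I) ≅ DerivedCategory.Q.obj J :=
    (Scheme.Modules.restrictFunctor j).mapDerivedCategoryFactors.app I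
  have hHJ : ∀ i, Coh.IsCoh (DCoh.HD (DerivedCategory.Q.obj J) i) := fun i => by
    obtain ⟨e⟩ := Groth.Calg1.DualSch.nonempty_homology_mapDerivedCategory
      (Scheme.Modules.restrictFunctor j) (DCoh.toD X I) i
    exact Groth.QCohMod.isCoh_of_iso (e.symm ≪≫ (DerivedCategory.homologyFunctor _ i).mapIso eJ)
      (isCoh_restrict_openImm j (hcoh i))
  haveI := Groth.Misc4.QCohTildeD.quasiIso_ε J fun i => (hHJ i).1
  let N : CochainComplex (ModuleCat.{u} R) ℤ :=
    ((moduleSpecΓFunctor (R := R)).mapHomologicalComplex up).obj J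
  let ω : Dual.D R := DerivedCategory.Q.obj N
  let eω : (DCoh.tildeD R).obj ω ≅ DerivedCategory.Q.obj J :=
    (tilde.functor R).mapDerivedCategoryFactors.app N ≪≫
      asIso (DerivedCategory.Q.map (Groth.Misc4.QCohTildeD.ε J))
  refine ⟨ω, ?_, ⟨eJ ≪≫ eω.symm⟩⟩
  -- bounds
  haveI : N.IsStrictlyGE a := (CochainComplex.isStrictlyGE_iff N a).2 fun i hi =>
    (moduleSpecΓFunctor (R := R)).map_isZero (CochainComplex.isZero_of_isStrictlyGE J a i hi)
  haveI : N.IsStrictlyLE b := (CochainComplex.isStrictlyLE_iff N b).2 fun i hi =>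
    (moduleSpecΓFunctor (R := R)).map_isZero (hJle i hi)
  haveI : ω.IsGE a := (inferInstance : (DerivedCategory.Q.obj N).IsGE a)
  haveI : ω.IsLE b := (inferInstance : (DerivedCategory.Q.obj N).IsLE b)
  -- finiteness
  have hfin : ∀ i, Module.Finite R (Dual.HD R ω i) := fun i => by
    obtain ⟨e⟩ := Groth.Calg1.DualSch.nonempty_homology_tildeD R ω i
    exact (Groth.PropsBasic.FPSections.isFT_tilde_iff (R := R) _).1
      (Groth.QCohMod.isCoh_of_iso
        ((DerivedCategory.homologyFunctor _ i).mapIso eω.symm ≪≫ e) (hHJ i)).2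
  -- finite injective dimension
  have hinj : ∀ (M : Type u) [AddCommGroup M] [Module R M], Module.Finite R M → ∀ i : ℤ,
      (i < a ∨ b < i) → Subsingleton (Dual.inD R M ⟶ ω⟦i⟧) := by
    intro M _ _ _ i hi
    let L : CochainComplex (Spec R).Modules ℤ := J⟦i⟧
    have hL : IsZero (L.X 0) := by
      rcases hi with hi | hi
      · exact IsZero.of_iso (CochainComplex.isZero_of_isStrictlyGE J a i hi)
          (eqToIso (by simp [L]))
      · exact IsZero.of_iso (hJle i hi) (eqToIso (by simp [L]))
    haveI := subsingleton_hom_single (C := (Spec R).Modules)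
      ((tilde.functor R).obj (ModuleCat.of R M)) L hL
    let eM : (DCoh.tildeD R).obj (Dual.inD R M) ≅
        (DerivedCategory.singleFunctor (Spec R).Modules 0).obj
          ((tilde.functor R).obj (ModuleCat.of R M)) :=
      ((tilde.functor R).mapDerivedCategorySingleFunctor 0).app (ModuleCat.of R M)
    let eS : (DCoh.tildeD R).obj (ω⟦i⟧) ≅ DerivedCategory.Q.obj L :=
      ((DCoh.tildeD R).commShiftIso i).app ω ≪≫
        (shiftFunctor (DCoh.D (Spec R)) i).mapIso eω ≪≫
          ((DerivedCategory.Q).commShiftIso i).symm.app J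
    refine ⟨fun f g => (Groth.Misc4.QCohTildeD.bijective_map R _ _).1 ?_⟩
    refine (cancel_epi eM.inv).1 ((cancel_mono eS.hom).1 ?_)
    exact Subsingleton.elim _ _
  -- the stalks
  let β : ∀ v : Spec R, R →+* X.presheaf.stalk (j v) := fun v =>
    (Groth.DerivedCoh.StalkAmp.stalkInv j v).comp (Groth.Agent.S1121.toStalkRing v).hom
  let P : MaximalSpectrum R → Type u := fun m => X.presheaf.stalk (j m.toPrimeSpectrum)
  letI : ∀ m, CommRing (P m) := fun m => inferInstanceAs (CommRing (X.presheaf.stalk (j m.toPrimeSpectrum)))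
  letI : ∀ m, Algebra R (P m) := fun m => (β m.toPrimeSpectrum).toAlgebra
  haveI hloc : ∀ m : MaximalSpectrum R, IsLocalization.AtPrime (P m) m.asIdeal := fun m => by
    let v : Spec R := m.toPrimeSpectrum
    letI := (Groth.Agent.S1121.toStalkRing v).hom.toAlgebra
    haveI : IsLocalization m.asIdeal.primeCompl ((Spec R).presheaf.stalk v) :=
      Groth.DerivedCoh.RelAmpTilde.isLocalization_toStalkRing (A := R) v
    exact IsLocalization.isLocalization_of_algEquiv m.asIdeal.primeCompl
      (AlgEquiv.ofRingEquiv (f := ((asIso (j.stalkMap v)).commRingCatIsoToRingEquiv).symm)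
        fun _ => rfl)
  haveI : ∀ m, Module.Flat R (P m) := fun m => IsLocalization.flat (P m) m.asIdeal.primeCompl
  have hP : ∀ m, Dual.IsDualizing (P m) ((Groth.DualCore.extD R (P m)).obj ω) := fun m => by
    let v : Spec R := m.toPrimeSpectrum
    let y : X := j v
    let χ := Groth.DerivedCoh.StalkAmp.stalkInv j v
    let S := Groth.DerivedCoh.KFlat.stk v
    let T := ((tilde.functor R).mapHomologicalComplex up).obj N
    let C := (((Groth.DerivedCoh.KFlat.stk y)).mapHomologicalComplex up).obj I
    let G := ModuleCat.extendScalars.{u, u, u} χ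
    haveI : QuasiIso ((G.mapHomologicalComplex up).map
        ((S.mapHomologicalComplex up).map (Groth.Misc4.QCohTildeD.ε J))) := inferInstance
    let e1 : (G.mapHomologicalComplex up).obj ((S.mapHomologicalComplex up).obj J) ≅ C :=
      (NatIso.mapHomologicalComplex (Groth.DerivedCoh.StalkAmp.stkRestrictIso j v) up).app I
    let e2 : (G.mapHomologicalComplex up).obj ((S.mapHomologicalComplex up).obj T) ≅
        ((ModuleCat.extendScalars.{u, u, u} (β v)).mapHomologicalComplex up).obj N :=
      (G.mapHomologicalComplex up).mapIso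
        ((NatIso.mapHomologicalComplex (Groth.Agent.S1121.tildeStkIso v) up).app N) ≪≫
      (NatIso.mapHomologicalComplex
        (ModuleCat.extendScalarsComp (Groth.Agent.S1121.toStalkRing v).hom χ).symm up).app N
    let e3 : (Groth.DualCore.extD R (P m)).obj ω ≅ DerivedCategory.Q.obj C :=
      (Groth.DualCore.ext R (P m)).mapDerivedCategoryFactors.app N ≪≫
        DerivedCategory.Q.mapIso e2.symm ≪≫
        asIso (DerivedCategory.Q.map ((G.mapHomologicalComplex up).map
          ((S.mapHomologicalComplex up).map (Groth.Misc4.QCohTildeD.ε J)))) ≪≫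
        DerivedCategory.Q.mapIso e1
    let θ : DerSch.stalkOver (𝟙 X) y ≅ Groth.DerivedCoh.KFlat.stk y :=
      Functor.isoWhiskerLeft (DerSch.stalkFunctor X y)
          (ModuleCat.restrictScalarsId' (Scheme.Hom.stalkMap (𝟙 X) y).hom
            (congrArg CommRingCat.Hom.hom (Scheme.Hom.stalkMap_id X y))) ≪≫
          Functor.rightUnitor _
    haveI : (DerSch.stalkOver (𝟙 X) y).Additive := inferInstance
    haveI : (Groth.DerivedCoh.KFlat.stk y).Additive := DerSch.additive_stalkFunctor y
    let e4 : DRing.toD ((DerSch.stalkCxOver (𝟙 X) y).obj I) ≅ DerivedCategory.Q.obj C :=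
      DerivedCategory.Q.mapIso (HomologicalComplex.Hom.isoOfComponents (fun i => θ.app (I.X i))
        fun i k _ => (θ.hom.naturality (I.d i k)).symm)
    exact Groth.DualCore.isDualizing_of_iso (e4 ≪≫ e3.symm) (hst y)
  refine Groth.DualCore.isDualizing_of_family P (fun M _ _ hM => ?_) ω hfin a b ⟨a, b, hinj⟩
    (fun m => (hP m).toEnd_bijective) (fun m => (hP m).ext_self_subsingleton)
  refine Groth.DualCore.subsingleton_of_maximal (A := R) M fun m => ?_
  haveI := hM m
  exact (TensorProduct.congr (IsLocalization.algEquiv m.asIdeal.primeCompl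
    (Localization.AtPrime m.asIdeal) (P m)).toLinearEquiv
      (LinearEquiv.refl (R := R) (M := M))).toEquiv.subsingleton

theorem isDualizingSch_of_stalks
    (I : CochainComplex X.Modules ℤ) (hIinj : ∀ i : ℤ, Injective (I.X i))
    (hIbdd : ∃ a b : ℤ, ∀ i : ℤ, (i < a ∨ b < i) → IsZero (I.X i))
    (hcoh : ∀ i : ℤ, Coh.IsCoh (DCoh.HD (DCoh.toD X I) i))
    (hst : ∀ x : X, Dual.IsDualizing (X.presheaf.stalk ((𝟙 X : X ⟶ X).base x))
      (DRing.toD ((DerSch.stalkCxOver (𝟙 X) x).obj I))) :
    Dual2.IsDualizingSch X (DCoh.toD X I) :=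
  fun A _ j _ => exists_dualizing_chart (R := CommRingCat.of A) j I hIinj hIbdd hcoh hst

end Groth.Dual3Dualizing
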